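import Groth.Prelude.Def_W4c2invhilbsl2
import Mathlib

set_option autoImplicit false

/-! Monomials of the graded rings `k[X₀,X₁,X₂]` and `k[X₀,…,X₄]`. -/

noncomputable section

namespace InvHilbLib

open MvPolynomial W4c2invhilbsl2

variable {k : Type*} [CommRing k]

/-- Induction on weighted homogeneous polynomials. -/
theorem weighted_induction {σ M : Type*} [AddCommMonoid M] {w : σ → M} {ν : M}
    {P : MvPolynomial σ k → Prop} (h0 : P 0) (hadd : ∀ f g, P f → P g → P (f + g))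
    (hmon : ∀ (d : σ →₀ ℕ) (a : k), Finsupp.weight w d = ν → P (monomial d a))
    {f : MvPolynomial σ k} (hf : f ∈ weightedHomogeneousSubmodule k w ν) : P f := by
  classical
  rw [f.as_sum]
  refine Finset.sum_induction _ P hadd h0 fun d hd => hmon d _ ?_
  exact hf (mem_support_iff.1 hd)

theorem monomial_eq3 (d : Fin 3 →₀ ℕ) (a : k) :
    monomial d a = C a * (X 0 ^ d 0 * X 1 ^ d 1 * X 2 ^ d 2) := by
  rw [MvPolynomial.monomial_eq, Finsupp.prod_fintype _ _ (fun i => pow_zero _), Fin.prod_univ_three]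

theorem monomial_eq5 (d : Fin 5 →₀ ℕ) (a : k) :
    monomial d a = C a * (X 0 ^ d 0 * X 1 ^ d 1 * X 2 ^ d 2 * X 3 ^ d 3 * X 4 ^ d 4) := by
  rw [MvPolynomial.monomial_eq, Finsupp.prod_fintype _ _ (fun i => pow_zero _), Fin.prod_univ_five]

/-- The weight condition of `wt3`. -/
theorem weight_wt3_eq_iff {p q m : ℕ} (d : Fin 3 →₀ ℕ) (n : ℤ) (r : ZMod m) :
    Finsupp.weight (wt3 p q m) d = (n, r) ↔
      (d 0 : ℤ) - p * d 1 + q * d 2 = n ∧ (((d 2 : ℤ) - d 1 : ℤ) : ZMod m) = r := by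
  rw [Finsupp.weight_apply, Finsupp.sum_fintype d (fun i c => c • wt3 p q m i) (fun i => zero_smul ℕ _), Fin.sum_univ_three]
  simp only [wt3, Matrix.cons_val_zero, Matrix.cons_val_one, Matrix.cons_val_two, Matrix.tail_cons, Matrix.head_cons,
    Prod.smul_mk, Prod.mk_add_mk, Prod.mk.injEq, nsmul_eq_mul, smul_zero, mul_one, mul_zero, zero_add]
  push_cast
  constructor <;> rintro ⟨h1, h2⟩ <;> exact ⟨by linear_combination h1, by linear_combination h2⟩

/-- The weight condition of `wt5`. -/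
theorem weight_wt5_eq_iff {p q m : ℕ} (d : Fin 5 →₀ ℕ) (n : ℤ) (r : ZMod m) :
    Finsupp.weight (wt5 p q m) d = (n, r) ↔
      (d 0 : ℤ) - p * (d 1 + d 2) + q * (d 3 + d 4) = n ∧
        ((((d 3 : ℤ) + d 4) - (d 1 + d 2) : ℤ) : ZMod m) = r := by
  rw [Finsupp.weight_apply, Finsupp.sum_fintype d (fun i c => c • wt5 p q m i) (fun i => zero_smul ℕ _), Fin.sum_univ_five]
  simp only [wt5, Matrix.cons_val_zero, Matrix.cons_val_one, Matrix.cons_val_two, Matrix.cons_val_three,
    Matrix.cons_val_four, Matrix.tail_cons, Matrix.head_cons,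
    Prod.smul_mk, Prod.mk_add_mk, Prod.mk.injEq, nsmul_eq_mul, smul_zero, mul_one, mul_zero, zero_add]
  push_cast
  constructor <;> rintro ⟨h1, h2⟩ <;> exact ⟨by linear_combination h1, by linear_combination h2⟩

theorem C_mul_mono3_mem {p q m : ℕ} (a : k) (a0 a1 a2 : ℕ) {ν : ℤ × ZMod m}
    (h1 : (a0 : ℤ) - p * a1 + q * a2 = ν.1) (h2 : (((a2 : ℤ) - a1 : ℤ) : ZMod m) = ν.2) :
    C a * (X 0 ^ a0 * X 1 ^ a1 * X 2 ^ a2) ∈ weightedHomogeneousSubmodule k (wt3 p q m) ν := by
  have e : C a * (X 0 ^ a0 * X 1 ^ a1 * X 2 ^ a2) =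
      monomial (Finsupp.equivFunOnFinite.symm ![a0, a1, a2]) a := by
    rw [monomial_eq3]; simp
  rw [e]
  refine isWeightedHomogeneous_monomial _ _ _ ((weight_wt3_eq_iff _ _ _).2 ?_)
  simp only [Finsupp.coe_equivFunOnFinite_symm, Matrix.cons_val_zero, Matrix.cons_val_one, Matrix.cons_val_two,
    Matrix.cons_val_three, Matrix.cons_val_four, Matrix.tail_cons, Matrix.head_cons]
  exact ⟨h1, h2⟩

theorem C_mul_mono5_mem {p q m : ℕ} (a : k) (a0 a1 a2 a3 a4 : ℕ) {ν : ℤ × ZMod m}
    (h1 : (a0 : ℤ) - p * (a1 + a2) + q * (a3 + a4) = ν.1)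
    (h2 : ((((a3 : ℤ) + a4) - (a1 + a2) : ℤ) : ZMod m) = ν.2) :
    C a * (X 0 ^ a0 * X 1 ^ a1 * X 2 ^ a2 * X 3 ^ a3 * X 4 ^ a4) ∈ weightedHomogeneousSubmodule k (wt5 p q m) ν := by
  have e : C a * (X 0 ^ a0 * X 1 ^ a1 * X 2 ^ a2 * X 3 ^ a3 * X 4 ^ a4) =
      monomial (Finsupp.equivFunOnFinite.symm ![a0, a1, a2, a3, a4]) a := by
    rw [monomial_eq5]; simp
  rw [e]
  refine isWeightedHomogeneous_monomial _ _ _ ((weight_wt5_eq_iff _ _ _).2 ?_)
  simp only [Finsupp.coe_equivFunOnFinite_symm, Matrix.cons_val_zero, Matrix.cons_val_one, Matrix.cons_val_two,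
    Matrix.cons_val_three, Matrix.cons_val_four, Matrix.tail_cons, Matrix.head_cons]
  exact ⟨h1, h2⟩

section Moves

variable {A : Type*} [CommRing A] (x y z : A) {d : ℕ}

/-- The monomial. -/
def mo (a b c : ℕ) : A := x ^ a * y ^ b * z ^ c

theorem mo_shift (h : x ^ d = y * z) (a b c j : ℕ) : mo x y z (a + j * d) b c = mo x y z a (b + j) (c + j) := by
  simp only [mo, pow_add, pow_mul', h, mul_pow]
  ring

/-- Same `(n, c)` implies equal. -/
theorem mo_eq_of_same {p q : ℕ} (hpq : p < q) (h : x ^ (q - p) = y * z) {a b c a' b' c' : ℕ}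
    (hn : (a : ℤ) - p * b + q * c = a' - p * b' + q * c') (hc : (b : ℤ) - c = b' - c') :
    mo x y z a b c = mo x y z a' b' c' := by
  wlog hbb : b ≤ b' generalizing a b c a' b' c'
  · exact (this hn.symm hc.symm (by omega)).symm
  obtain ⟨j, rfl⟩ := Nat.exists_eq_add_of_le hbb
  obtain rfl : c' = c + j := by omega
  obtain rfl : a = a' + j * (q - p) := by
    zify [hpq.le]
    push_cast at hn ⊢
    linear_combination hn
  exact mo_shift x y z h a' b c j

/-- A monomial with larger `c` (same `n`, congruent mod `m`) is divisible by `x^(mp) y^m`. -/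
theorem exists_mo_eq_mul {p q m : ℕ} (hpq : p < q) (h : x ^ (q - p) = y * z) {a b c a' b' c' : ℕ}
    (hn : (a : ℤ) - p * b + q * c = a' - p * b' + q * c') {j : ℕ} (hj : 0 < j)
    (hc : (b : ℤ) - c = b' - c' + m * j) :
    ∃ a'' b'' c'' : ℕ, mo x y z a b c = x ^ (m * p) * y ^ m * mo x y z a'' b'' c'' ∧
      (a'' : ℤ) - p * b'' + q * c'' = a - p * b + q * c ∧ (b'' : ℤ) - c'' = b - c - m := by
  have hd : (0 : ℤ) ≤ (q : ℤ) - p := by omega
  have hjm : (m : ℤ) ≤ m * j := le_mul_of_one_le_right (by positivity) (by exact_mod_cast hj)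
  rcases le_or_gt (m : ℤ) ((b : ℤ) - c) with hcase | hcase
  · -- representative `(n + p C, C, 0)`
    obtain ⟨C', hC'⟩ : ∃ C' : ℕ, ((C' : ℤ) + m = b - c) := ⟨((b : ℤ) - c - m).toNat, by omega⟩
    obtain ⟨A', hA'⟩ : ∃ A' : ℕ, (A' : ℤ) = a - p * b + q * c + p * C' := by
      refine ⟨(a - p * b + q * c + p * (C' : ℤ)).toNat, Int.toNat_of_nonneg ?_⟩
      rw [hn]
      have h1 : (p : ℤ) * ((b' : ℤ) - c') ≤ p * C' := mul_le_mul_of_nonneg_left (by omega) (by positivity)
      nlinarith [mul_nonneg hd (Int.natCast_nonneg c')]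
    refine ⟨A', C', 0, ?_, by push_cast; linear_combination hA', by push_cast; linarith⟩
    rw [mo_eq_of_same x y z hpq h (a' := A' + m * p) (b' := C' + m) (c' := 0)]
    · simp only [mo, pow_add, pow_zero]; ring
    · push_cast; linear_combination -hA'
    · push_cast; linarith
  · -- representative `(n + q C - d m, m, m - C)`
    obtain ⟨C', hC'⟩ : ∃ C' : ℕ, ((C' : ℤ) = m - (b - c)) := ⟨((m : ℤ) - (b - c)).toNat, by omega⟩
    obtain ⟨A', hA'⟩ : ∃ A' : ℕ, (A' : ℤ) = a - p * b + q * c - q * C' := by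
      refine ⟨(a - p * b + q * c - q * (C' : ℤ)).toNat, Int.toNat_of_nonneg ?_⟩
      rw [hn]
      have h1 : (q : ℤ) * C' ≤ q * ((c' : ℤ) - b') := mul_le_mul_of_nonneg_left (by omega) (by positivity)
      nlinarith [mul_nonneg hd (Int.natCast_nonneg b')]
    refine ⟨A', 0, C', ?_, by push_cast; linear_combination hA', by push_cast; linarith⟩
    rw [mo_eq_of_same x y z hpq h (a' := A' + m * p) (b' := m) (c' := C')]
    · simp only [mo, pow_add, pow_zero]; ring
    · push_cast; linear_combination -hA'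
    · push_cast; linarith

/-- `j`-fold version: the monomial with `c + m j` equals `(x^(mp) y^m)^j` times that with `c`. -/
theorem mo_eq_pow_mul {p q m : ℕ} (hpq : p < q) (h : x ^ (q - p) = y * z) :
    ∀ (j : ℕ) {a b c a' b' c' : ℕ}, ((a : ℤ) - p * b + q * c = a' - p * b' + q * c') →
      ((b : ℤ) - c = b' - c' + m * j) → mo x y z a b c = (x ^ (m * p) * y ^ m) ^ j * mo x y z a' b' c'
  | 0, _, _, _, _, _, _, hn, hc => by
    rw [pow_zero, one_mul]
    exact mo_eq_of_same x y z hpq h hn (by simpa using hc)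
  | j + 1, a, b, c, a', b', c', hn, hc => by
    obtain ⟨a'', b'', c'', he, hn', hc'⟩ := exists_mo_eq_mul x y z (m := m) hpq h hn (Nat.succ_pos j) hc
    rw [he, mo_eq_pow_mul (m := m) hpq h j (hn'.trans hn) (by push_cast at hc hc' ⊢; linear_combination hc' + hc), pow_succ']
    ring

end Moves

/-- A piece has rank at most one if the monomial images of that weight are pairwise proportional. -/
theorem rank_piece_le_one {K : Type*} [Field K] {σ M : Type*} [AddCommMonoid M] (w : σ → M)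
    (I : Ideal (MvPolynomial σ K)) (ν : M)
    (h : ∀ d e : σ →₀ ℕ, Finsupp.weight w d = ν → Finsupp.weight w e = ν →
      (∃ t : K, Ideal.Quotient.mk I (monomial d 1) = t • Ideal.Quotient.mk I (monomial e 1)) ∨
      (∃ t : K, Ideal.Quotient.mk I (monomial e 1) = t • Ideal.Quotient.mk I (monomial d 1))) :
    Module.rank K (piece K w I ν) ≤ 1 := by
  classical
  have key : ∃ v, piece K w I ν ≤ Submodule.span K {v} := by
    by_cases hz : ∃ e : σ →₀ ℕ, Finsupp.weight w e = ν ∧ Ideal.Quotient.mk I (monomial e (1 : K)) ≠ 0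
    · obtain ⟨e, he, he0⟩ := hz
      refine ⟨Ideal.Quotient.mk I (monomial e 1), ?_⟩
      rintro _ ⟨f, hf, rfl⟩
      refine weighted_induction (P := fun f => (Ideal.Quotient.mkₐ K I).toLinearMap f ∈ Submodule.span K _)
        (by simp) (fun f g hf hg => by rw [map_add]; exact add_mem hf hg) (fun d a hd => ?_) hf
      rw [show monomial d a = a • monomial d (1 : K) by rw [MvPolynomial.smul_monomial, smul_eq_mul, mul_one], map_smul]
      refine Submodule.smul_mem _ a (Submodule.mem_span_singleton.2 ?_)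
      rcases h d e hd he with ⟨t, ht⟩ | ⟨t, ht⟩
      · exact ⟨t, ht.symm⟩
      · refine ⟨t⁻¹, ?_⟩
        have ht0 : t ≠ 0 := by rintro rfl; exact he0 (by rw [ht, zero_smul])
        rw [ht, smul_smul, inv_mul_cancel₀ ht0, one_smul]
        rfl
    · refine ⟨0, ?_⟩
      push Not at hz
      rintro _ ⟨f, hf, rfl⟩
      refine weighted_induction (P := fun f => (Ideal.Quotient.mkₐ K I).toLinearMap f ∈ Submodule.span K _)
        (by simp) (fun f g hf hg => by rw [map_add]; exact add_mem hf hg) (fun d a hd => ?_) hf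
      rw [show monomial d a = a • monomial d (1 : K) by rw [MvPolynomial.smul_monomial, smul_eq_mul, mul_one], map_smul]
      refine Submodule.smul_mem _ a ?_
      show Ideal.Quotient.mk I (monomial d 1) ∈ _
      rw [hz d hd]
      exact zero_mem _
  obtain ⟨v, hv⟩ := key
  refine (Submodule.rank_mono hv).trans ((rank_span_le _).trans ?_)
  simp

end InvHilbLib
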