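import Groth.Agent.InvHilbLib.HJ
import Groth.Agent.InvHilbLib.Basic

set_option autoImplicit false

/-! Weight-zero vectors in terms of the Hirzebruch–Jung data. -/

noncomputable section

namespace InvHilbLib

open W4c2invhilbsl2

section

variable {p q m : ℕ} (hp : 0 < p) (hpq : p < q) (hcop : Nat.Coprime p q) (hm : 0 < m) (hnt : ¬ (q - p ∣ m))
  {c : List ℤ} (hc : IsHJDigits p q m c)

local notation "bz" => ((bB p q m : ℕ) : ℤ)
local notation "tz" => ((tT p q m : ℕ) : ℤ)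
local notation "gz" => ((gcdK p q m : ℕ) : ℤ)

include hc in
theorem hval : HJFrac.hjVal c = (((bB p q m : ℕ) : ℤ) : ℚ) / (((tT p q m : ℕ) : ℤ) : ℚ) := by
  rw [hc.2]; push_cast; rfl

/-- First component `(α+1+m) k - z`. -/
abbrev vecE (p q m : ℕ) (k z : ℤ) : ℤ := ((alpha p q m : ℤ) + 1 + m) * k - z
/-- Second component `(α+1) k - z`. -/
abbrev vecL (p q m : ℕ) (k z : ℤ) : ℤ := ((alpha p q m : ℤ) + 1) * k - z

theorem eE_eq (c : List ℤ) (i : ℕ) : eE p q m c i = vecE p q m (hjP c i) (hjQ c i) := by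
  simp only [eE, vecE]; push_cast; ring

theorem lL_eq (c : List ℤ) (i : ℕ) : lL p q m c i = vecL p q m (hjP c i) (hjQ c i) := by
  simp only [lL, vecL]; push_cast; ring

include hp hpq hcop hm hnt in
/-- Structure of a vector of weight zero. -/
theorem exists_kz (x0 x1 x2 k : ℤ) (h1 : x0 - p * x1 + q * x2 = 0) (h2 : x1 - x2 = m * k) :
    ∃ z : ℤ, x1 = vecE p q m k z ∧ x2 = vecL p q m k z ∧ x0 = -(gz * (tz * k - bz * z)) := by
  obtain ⟨h3, -, -, -, -, h4⟩ := tT_facts hp hpq hcop hm hnt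
  refine ⟨((alpha p q m : ℤ) + 1) * k - x2, ?_, ?_, ?_⟩
  · simp only [vecE]; linear_combination h2
  · simp only [vecL]; ring
  · linear_combination h1 + (p : ℤ) * h2 + k * h4 + (x2 - ((alpha p q m : ℤ) + 1) * k) * h3

include hp hpq hcop hm hnt hc in
theorem ll_mono (i : ℕ) (hi : i ≤ c.length) :
    0 ≤ lL p q m c i ∧ lL p q m c i ≤ lL p q m c (i + 1) ∧ 0 ≤ eE p q m c i ∧ eE p q m c i ≤ eE p q m c (i + 1) := by
  induction i with
  | zero =>
    simp only [lL, eE, hjP, hjQ]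
    push_cast
    refine ⟨?_, ?_, ?_, ?_⟩ <;> linarith [Int.natCast_nonneg (alpha p q m), Int.natCast_nonneg m]
  | succ i ih =>
    obtain ⟨h1, h2, h3, h4⟩ := ih (by omega)
    have hd : 2 ≤ c.getD i 0 := by
      rw [List.getD_eq_getElem _ _ (by omega : i < c.length)]
      exact hc.1 _ (List.getElem_mem _)
    have e1 : lL p q m c (i + 2) = c.getD i 0 * lL p q m c (i + 1) - lL p q m c i := by
      simp only [lL, hjP, hjQ]; ring
    have e2 : eE p q m c (i + 2) = c.getD i 0 * eE p q m c (i + 1) - eE p q m c i := by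
      simp only [eE, hjP, hjQ]; ring
    refine ⟨by omega, ?_, by omega, ?_⟩
    · rw [e1]; nlinarith
    · rw [e2]; nlinarith

include hp hpq hcop hm hnt hc in
/-- The key estimate. -/
theorem vec_ge (i : ℕ) (hi1 : 1 ≤ i) (hir : i ≤ c.length) (k z : ℤ) (hk : 0 < k)
    (hy0 : 0 < tz * k - bz * z) (hy : tz * k - bz * z < hjN bz tz c (i - 1)) :
    hjP c i ≤ k ∧ eE p q m c i ≤ vecE p q m k z ∧ lL p q m c i ≤ vecL p q m k z := by
  obtain ⟨-, ht0, htb, -, -, -⟩ := tT_facts hp hpq hcop hm hnt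
  obtain ⟨j, rfl⟩ := Nat.exists_eq_add_of_le' hi1
  rw [Nat.add_sub_cancel] at hy
  obtain ⟨u, v, hxe, hze, hye⟩ := exists_coords (t := tz) (b := bz) c j k (tz * k - bz * z) z rfl
  obtain ⟨hP0, hP1⟩ := hjP_succ hc.1 j (by omega)
  have hN := hjN_succ_lt hc.1 (hval hc) ht0 htb j (by omega)
  have hN1 := hjN_pos hc.1 (hval hc) ht0 htb (j + 1) (by omega)
  obtain ⟨l1, l2, e1, e2⟩ := ll_mono hp hpq hcop hm hnt hc j (by omega)
  have hE : vecE p q m k z = u * eE p q m c j + v * eE p q m c (j + 1) := by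
    rw [eE_eq, eE_eq]; simp only [vecE]
    linear_combination ((alpha p q m : ℤ) + 1 + m) * hxe - hze
  have hL : vecL p q m k z = u * lL p q m c j + v * lL p q m c (j + 1) := by
    rw [lL_eq, lL_eq]; simp only [vecL]
    linear_combination ((alpha p q m : ℤ) + 1) * hxe - hze
  have hv : 1 ≤ v := by
    by_contra hv
    rcases le_or_gt u 0 with hu | hu
    · have : u * hjP c j ≤ 0 := mul_nonpos_of_nonpos_of_nonneg hu hP0
      have : v * hjP c (j + 1) ≤ 0 := mul_nonpos_of_nonpos_of_nonneg (by omega) (by omega)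
      omega
    · have : -v + 1 ≤ u := by
        by_contra huv
        nlinarith
      nlinarith
  rw [hE, hL, hxe]
  rcases le_or_gt 0 u with hu | hu
  · refine ⟨?_, ?_, ?_⟩ <;> nlinarith
  · have : -u + 1 ≤ v := by
      by_contra huv
      nlinarith
    refine ⟨?_, ?_, ?_⟩ <;> nlinarith

include hp hpq hcop hm hnt in
theorem vec_neg (k z : ℤ) (hk : k < 0) (hy : tz * k - bz * z < bz) :
    vecE p q m k z < 0 ∧ vecL p q m k z ≤ 0 := by
  obtain ⟨-, ht0, htb, -, -, -⟩ := tT_facts hp hpq hcop hm hnt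
  have hA : 0 < ((alpha p q m : ℤ) + 1) * bz - tz := by nlinarith [Int.natCast_nonneg (alpha p q m)]
  have h1 : bz * vecL p q m k z < bz := by
    have : (((alpha p q m : ℤ) + 1) * bz - tz) * k ≤ 0 := mul_nonpos_of_nonneg_of_nonpos hA.le hk.le
    simp only [vecL]; nlinarith
  have h2 : bz * vecE p q m k z < 0 := by
    have h3 : (((alpha p q m : ℤ) + 1) * bz - tz) * k ≤ 0 := mul_nonpos_of_nonneg_of_nonpos hA.le hk.le
    have h4 : bz * (m * k) ≤ -bz := by
      have : (m : ℤ) * k ≤ -1 := by nlinarith [show (1 : ℤ) ≤ m by exact_mod_cast hm]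
      nlinarith
    simp only [vecE]; nlinarith
  exact ⟨by nlinarith, by nlinarith⟩

include hp hpq hcop hm hnt in
theorem vec_zero (k z : ℤ) (hk : k = 0) (hy0 : 0 ≤ tz * k - bz * z) (hy : tz * k - bz * z < bz) : z = 0 := by
  obtain ⟨-, ht0, htb, -, -, -⟩ := tT_facts hp hpq hcop hm hnt
  subst hk
  nlinarith

include hp hpq hcop hm hnt in
theorem vec_pos (k z : ℤ) (hk : 0 < k) (hy0 : 0 ≤ tz * k - bz * z) :
    0 < vecE p q m k z ∧ 0 < vecL p q m k z := by
  obtain ⟨-, ht0, htb, -, -, -⟩ := tT_facts hp hpq hcop hm hnt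
  have hA : 0 < ((alpha p q m : ℤ) + 1) * bz - tz := by nlinarith [Int.natCast_nonneg (alpha p q m)]
  have h1 : 0 < bz * vecL p q m k z := by
    have : 0 < (((alpha p q m : ℤ) + 1) * bz - tz) * k := mul_pos hA hk
    simp only [vecL]; nlinarith
  have h0 : (0 : ℤ) < vecL p q m k z := by nlinarith
  refine ⟨?_, h0⟩
  have : 0 ≤ (m : ℤ) * k := by positivity
  simp only [vecL, vecE] at h0 ⊢; nlinarith

include hp hpq hcop hm hnt hc in
/-- A monomial of weight `(nᵢ, 0)` is a multiple of `X₀^nᵢ` or of `X₁^eᵢ X₂^lᵢ`. -/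
theorem cases_of_weight_n (i : ℕ) (hi1 : 1 ≤ i) (hir : i ≤ c.length) (d0 d1 d2 : ℕ)
    (hw : (d0 : ℤ) - p * d1 + q * d2 = nN p q m c i) (hc' : (m : ℤ) ∣ (d2 : ℤ) - d1) :
    (nN p q m c i).toNat ≤ d0 ∨ ((eE p q m c i).toNat ≤ d1 ∧ (lL p q m c i).toNat ≤ d2) := by
  rcases le_or_gt (nN p q m c i).toNat d0 with h | h
  · exact Or.inl h
  right
  obtain ⟨-, ht0, htb, -, hg, -⟩ := tT_facts hp hpq hcop hm hnt
  obtain ⟨k', hk'⟩ := hc'
  obtain ⟨z, hz1, hz2, hz0⟩ := exists_kz hp hpq hcop hm hnt ((d0 : ℤ) - nN p q m c i) d1 d2 (-k')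
    (by linear_combination hw) (by linear_combination -hk')
  have hN := nN_eq hp hpq hcop hm hnt c i
  have hlt : (d0 : ℤ) < nN p q m c i := by omega
  have hy0 : 0 < tz * (-k') - bz * z := by nlinarith
  have hy1 : tz * (-k') - bz * z ≤ hjN bz tz c i := by nlinarith [Int.natCast_nonneg d0]
  have hlt' := hjN_succ_lt hc.1 (hval hc) ht0 htb (i - 1) (by omega)
  rw [Nat.sub_add_cancel hi1] at hlt'
  have hb := hjN_le hc.1 (hval hc) ht0 htb (i - 1) (by omega)
  rcases lt_trichotomy (-k') 0 with hk | hk | hk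
  · have := (vec_neg hp hpq hcop hm hnt (-k') z hk (by linarith)).1
    omega
  · have := vec_zero hp hpq hcop hm hnt (-k') z hk hy0.le (by linarith)
    rw [this, hk] at hy0
    simp at hy0
  · obtain ⟨-, h1, h2⟩ := vec_ge hp hpq hcop hm hnt hc i hi1 hir (-k') z hk hy0 (by linarith)
    omega

end

section Quot

variable {K : Type*} [Field K] {p q m : ℕ} (hp : 0 < p) (hpq : p < q) (hcop : Nat.Coprime p q) (hm : 0 < m)
  (hnt : ¬ (q - p ∣ m)) {c : List ℤ} (hc : IsHJDigits p q m c) {i : ℕ} (hi1 : 1 ≤ i) (hir : i ≤ c.length)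
  {A : Type*} [CommRing A] [Algebra K A] (x y z : A) (s : K)
  (hx : x ^ (nN p q m c (i - 1)).toNat = 0)
  (hrel : y ^ (eE p q m c i).toNat * z ^ (lL p q m c i).toNat = algebraMap K A s * x ^ (nN p q m c i).toNat)
  (hK : ∀ a b d : ℕ, (a ≠ 0 ∨ b ≠ 0 ∨ d ≠ 0) → (a : ℤ) - p * b + q * d = 0 → (m : ℤ) ∣ (b : ℤ) - d → mo x y z a b d = 0)

local notation "bz" => ((bB p q m : ℕ) : ℤ)
local notation "tz" => ((tT p q m : ℕ) : ℤ)
local notation "gz" => ((gcdK p q m : ℕ) : ℤ)

include hK in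
theorem prop_of_le {a b d a' b' d' : ℕ} (hw : (a : ℤ) - p * b + q * d = a' - p * b' + q * d')
    (hc' : (m : ℤ) ∣ ((b : ℤ) - d) - (b' - d')) (h0 : a' ≤ a) (h1 : b' ≤ b) (h2 : d' ≤ d) :
    ∃ t : K, mo x y z a b d = t • mo x y z a' b' d' := by
  obtain ⟨u, rfl⟩ := Nat.exists_eq_add_of_le h0
  obtain ⟨v, rfl⟩ := Nat.exists_eq_add_of_le h1
  obtain ⟨w, rfl⟩ := Nat.exists_eq_add_of_le h2
  by_cases hz : u ≠ 0 ∨ v ≠ 0 ∨ w ≠ 0
  · refine ⟨0, ?_⟩
    have := hK u v w hz (by push_cast at hw; linear_combination hw) (by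
      obtain ⟨j, hj⟩ := hc'
      exact ⟨j, by push_cast at hj; linear_combination hj⟩)
    simp only [mo] at this ⊢
    rw [zero_smul, pow_add, pow_add, pow_add]
    linear_combination (x ^ a' * y ^ b' * z ^ d') * this
  · push Not at hz
    obtain ⟨rfl, rfl, rfl⟩ := hz
    exact ⟨1, by rw [one_smul]; rfl⟩

include hp hpq hcop hm hnt hc hi1 hir hrel hK in
theorem prop_aux : ∀ (Y : ℕ) (k w : ℤ) (a b d a' b' d' : ℕ), tz * k - bz * w = (Y : ℤ) → 0 ≤ k →
    (Y : ℤ) < hjN bz tz c (i - 1) → (a' : ℤ) - a = gz * (tz * k - bz * w) → (b : ℤ) - b' = vecE p q m k w →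
    (d : ℤ) - d' = vecL p q m k w → ∃ t : K, mo x y z a b d = t • mo x y z a' b' d' := by
  intro Y
  induction Y using Nat.strong_induction_on with
  | _ Y ih =>
    intro k w a b d a' b' d' hY hk hlt ha hb hd
    obtain ⟨hgb, ht0, htb, -, hg, hpm⟩ := tT_facts hp hpq hcop hm hnt
    have hb' := hjN_le hc.1 (hval hc) ht0 htb (i - 1) (by omega)
    rcases hk.eq_or_lt with hk0 | hk0
    · have hw := vec_zero hp hpq hcop hm hnt k w hk0.symm (hY ▸ Int.natCast_nonneg Y) (by linarith)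
      subst hw hk0
      refine ⟨1, ?_⟩
      simp [vecE, vecL] at ha hb hd
      obtain rfl : a' = a := by omega
      obtain rfl : b = b' := by omega
      obtain rfl : d = d' := by omega
      rw [one_smul]
    rcases Nat.eq_zero_or_pos Y with rfl | hY0
    · obtain ⟨hE, hL⟩ := vec_pos hp hpq hcop hm hnt k w hk0 (by rw [hY]; simp)
      refine prop_of_le (K := K) (m := m) x y z hK ?_ ⟨k, ?_⟩ ?_ (by omega) (by omega)
      · simp only [vecE, vecL] at hb hd
        linear_combination -ha + (-(p : ℤ)) * hb + (q : ℤ) * hd + w * hgb + (-k) * hpm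
      · simp only [vecE, vecL] at hb hd
        linear_combination hb - hd
      · rw [hY] at ha; simp at ha; omega
    obtain ⟨hPk, hEe, hLl⟩ := vec_ge hp hpq hcop hm hnt hc i hi1 hir k w hk0 (by omega) (hY ▸ hlt)
    obtain ⟨l1, l2, e1, e2⟩ := ll_mono hp hpq hcop hm hnt hc i hir
    have hN := nN_eq hp hpq hcop hm hnt c i
    have hNi := hjN_pos hc.1 (hval hc) ht0 htb i hir
    obtain ⟨n₀, hn₀⟩ : ∃ n₀ : ℕ, (n₀ : ℤ) = nN p q m c i := ⟨(nN p q m c i).toNat, Int.toNat_of_nonneg (by rw [hN]; positivity)⟩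
    obtain ⟨E₀, hE₀⟩ : ∃ E : ℕ, (E : ℤ) = eE p q m c i := ⟨(eE p q m c i).toNat, Int.toNat_of_nonneg e1⟩
    obtain ⟨L₀, hL₀⟩ : ∃ L : ℕ, (L : ℤ) = lL p q m c i := ⟨(lL p q m c i).toNat, Int.toNat_of_nonneg l1⟩
    have hmo : mo x y z a b d = algebraMap K A s * mo x y z (a + n₀) (b - E₀) (d - L₀) := by
      have hrel' := hrel
      rw [← hn₀, ← hE₀, ← hL₀, Int.toNat_natCast, Int.toNat_natCast, Int.toNat_natCast] at hrel'
      conv_lhs => rw [← Nat.sub_add_cancel (show E₀ ≤ b by omega), ← Nat.sub_add_cancel (show L₀ ≤ d by omega)]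
      simp only [mo, pow_add]
      linear_combination (x ^ a * y ^ (b - E₀) * z ^ (d - L₀)) * hrel'
    have hY' : tz * (k - hjP c i) - bz * (w - hjQ c i) = (Y : ℤ) - hjN bz tz c i := by
      rw [← hY]; simp only [hjN]; ring
    have hb2 : ((b - E₀ : ℕ) : ℤ) - b' = vecE p q m (k - hjP c i) (w - hjQ c i) := by
      rw [Nat.cast_sub (by omega), hE₀, eE_eq]
      simp only [vecE] at hb ⊢; linear_combination hb
    have hd2 : ((d - L₀ : ℕ) : ℤ) - d' = vecL p q m (k - hjP c i) (w - hjQ c i) := by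
      rw [Nat.cast_sub (by omega), hL₀, lL_eq]
      simp only [vecL] at hd ⊢; linear_combination hd
    have ha2 : (a' : ℤ) - ((a + n₀ : ℕ) : ℤ) = gz * (tz * (k - hjP c i) - bz * (w - hjQ c i)) := by
      rw [hY']; push_cast; rw [hn₀, hN, ← hY]; linear_combination ha
    rcases le_or_gt (hjN bz tz c i) (Y : ℤ) with hge | hlt2
    · obtain ⟨t, ht⟩ := ih ((Y : ℤ) - hjN bz tz c i).toNat (by omega) (k - hjP c i) (w - hjQ c i) _ _ _ _ _ _
        (by rw [hY']; omega) (by omega) (by omega) ha2 hb2 hd2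
      refine ⟨s * t, ?_⟩
      rw [hmo, ht, ← Algebra.smul_def, smul_smul]
    · have h1 : 0 ≤ vecE p q m (k - hjP c i) (w - hjQ c i) := by
        rw [eE_eq] at hEe; simp only [vecE] at hEe ⊢; nlinarith
      have h2 : 0 ≤ vecL p q m (k - hjP c i) (w - hjQ c i) := by
        rw [lL_eq] at hLl; simp only [vecL] at hLl ⊢; nlinarith
      obtain ⟨t, ht⟩ := prop_of_le (K := K) (m := m) x y z hK (a := a + n₀) (b := b - E₀) (d := d - L₀)
        (a' := a') (b' := b') (d' := d') (by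
          simp only [vecE, vecL] at hb2 hd2
          linear_combination -ha2 + (-(p : ℤ)) * hb2 + (q : ℤ) * hd2 + (w - hjQ c i) * hgb + (-(k - hjP c i)) * hpm)
        ⟨k - hjP c i, by simp only [vecE, vecL] at hb2 hd2; linear_combination hb2 - hd2⟩ (by nlinarith) (by omega) (by omega)
      refine ⟨s * t, ?_⟩
      rw [hmo, ht, ← Algebra.smul_def, smul_smul]

include hp hpq hcop hm hnt hc hi1 hir hx hrel hK in
theorem proportional {a b d a' b' d' : ℕ} (hw : (a : ℤ) - p * b + q * d = a' - p * b' + q * d')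
    (hc' : (m : ℤ) ∣ ((b : ℤ) - d) - (b' - d')) :
    (∃ t : K, mo x y z a b d = t • mo x y z a' b' d') ∨ (∃ t : K, mo x y z a' b' d' = t • mo x y z a b d) := by
  wlog haa : a ≤ a' generalizing a b d a' b' d'
  · obtain ⟨j, hj⟩ := hc'
    exact (this hw.symm ⟨-j, by linear_combination -hj⟩ (by omega)).symm
  have hN := nN_eq hp hpq hcop hm hnt c (i - 1)
  by_cases hbig : (nN p q m c (i - 1)).toNat ≤ a'
  · refine Or.inr ⟨0, ?_⟩
    obtain ⟨u, rfl⟩ := Nat.exists_eq_add_of_le hbig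
    simp [mo, pow_add, hx]
  obtain ⟨k, hk⟩ := hc'
  obtain ⟨w, hb, hd, ha⟩ := exists_kz hp hpq hcop hm hnt ((a : ℤ) - a') ((b : ℤ) - b') ((d : ℤ) - d') k
    (by linear_combination hw) (by linear_combination hk)
  obtain ⟨-, ht0, htb, -, hg, -⟩ := tT_facts hp hpq hcop hm hnt
  have hy0 : 0 ≤ tz * k - bz * w := by nlinarith
  have hlt : tz * k - bz * w < hjN bz tz c (i - 1) := by
    have : ((a' : ℕ) : ℤ) < nN p q m c (i - 1) := by omega
    nlinarith [Int.natCast_nonneg a]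
  rcases lt_or_ge k 0 with hkneg | hkpos
  · obtain ⟨hE, hL⟩ := vec_neg hp hpq hcop hm hnt k w hkneg
      (by linarith [hjN_le hc.1 (hval hc) ht0 htb (i - 1) (by omega)])
    exact Or.inr (prop_of_le (K := K) (m := m) x y z hK hw.symm ⟨-k, by linear_combination -hk⟩ haa (by omega) (by omega))
  · exact Or.inl (prop_aux hp hpq hcop hm hnt hc hi1 hir x y z s hrel hK _ k w a b d a' b' d'
      (Int.toNat_of_nonneg hy0).symm hkpos (by rw [Int.toNat_of_nonneg hy0]; exact hlt)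
      (by linear_combination -ha) hb hd)

end Quot

end InvHilbLib
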