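import Groth.Agent.InvHilbLib.Basic

set_option autoImplicit false

/-! Monomials of small `X₀`-degree with the same weight. -/

namespace InvHilbLib

theorem exists_shift_of_small {p q m : ℕ} (hp : 0 < p) (hpq : p < q) (hcop : Nat.Coprime p q) (hm : 0 < m)
    {d0 d1 d2 e0 e1 e2 : ℕ}
    (hn : (d0 : ℤ) - p * d1 + q * d2 = e0 - p * e1 + q * e2)
    (hc : (m : ℤ) ∣ ((d1 : ℤ) - d2) - ((e1 : ℤ) - e2))
    (hd0 : d0 < Nat.gcd m (q - p)) (he0 : e0 < Nat.gcd m (q - p)) :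
    d0 = e0 ∧ ∃ u : ℤ, (d1 : ℤ) - e1 = (m / Nat.gcd m (q - p) * q : ℕ) * u ∧
      (d2 : ℤ) - e2 = (m / Nat.gcd m (q - p) * p : ℕ) * u := by
  obtain ⟨a, b, hab, ha, hb⟩ := Nat.exists_coprime m (q - p)
  generalize hg : Nat.gcd m (q - p) = g at *
  have hgpos : 0 < g := by omega
  have hqd : (q : ℤ) - p = (b : ℤ) * g := by
    have : ((q - p : ℕ) : ℤ) = (b : ℤ) * g := by exact_mod_cast hb
    rw [Nat.cast_sub hpq.le] at this
    exact this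
  have hmz : (m : ℤ) = (a : ℤ) * g := by exact_mod_cast ha
  obtain ⟨j, hj⟩ := hc
  have h0 : d0 = e0 := by
    have hdvd : (g : ℤ) ∣ (d0 : ℤ) - e0 :=
      ⟨p * a * j - b * ((d2 : ℤ) - e2), by
        linear_combination hn + (p : ℤ) * hj + (-((d2 : ℤ) - e2)) * hqd + ((p : ℤ) * j) * hmz⟩
    have := Int.eq_zero_of_dvd_of_natAbs_lt_natAbs hdvd (by omega)
    omega
  subst h0
  refine ⟨rfl, ?_⟩
  have hpq' : (p : ℤ) * ((d1 : ℤ) - e1) = q * ((d2 : ℤ) - e2) := by linear_combination -hn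
  obtain ⟨s, hs⟩ : (p : ℤ) ∣ (d2 : ℤ) - e2 :=
    (Nat.isCoprime_iff_coprime.2 hcop).dvd_of_dvd_mul_left ⟨_, hpq'.symm⟩
  have hpz : (p : ℤ) ≠ 0 := by exact_mod_cast hp.ne'
  have hs1 : (d1 : ℤ) - e1 = q * s := mul_left_cancel₀ hpz (by rw [hpq', hs]; ring)
  have has : (a : ℤ) ∣ s := by
    refine (Nat.isCoprime_iff_coprime.2 hab).dvd_of_dvd_mul_left (y := (b : ℤ)) ⟨j, ?_⟩
    refine mul_right_cancel₀ (show (g : ℤ) ≠ 0 by exact_mod_cast hgpos.ne') ?_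
    linear_combination (-s) * hqd + hj + j * hmz - hs1 + hs
  obtain ⟨u, hu⟩ := has
  have hma : m / g = a := Nat.div_eq_of_eq_mul_left hgpos ha
  rw [hma]
  exact ⟨u, by push_cast; rw [hs1, hu]; ring, by push_cast; rw [hs, hu]; ring⟩

end InvHilbLib
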