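import Groth.Prelude.Def_W4c2invhilbsl2HJ
import Mathlib

set_option autoImplicit false

/-!
Arithmetic of the Hirzebruch–Jung bookkeeping: the unimodular pairs `(Pᵢ, Nᵢ)`, `(Pᵢ₊₁, Nᵢ₊₁)`
with `Nᵢ = t Pᵢ - b Qᵢ`, and the best-approximation property.
-/

namespace InvHilbLib

open W4c2invhilbsl2

/-- `Nᵢ = t Pᵢ - b Qᵢ`. -/
def hjN (b t : ℤ) (c : List ℤ) (i : ℕ) : ℤ := t * hjP c i - b * hjQ c i

theorem hjN_zero (b t : ℤ) (c : List ℤ) : hjN b t c 0 = b := by simp [hjN, hjP, hjQ]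

theorem hjN_one (b t : ℤ) (c : List ℤ) : hjN b t c 1 = t := by simp [hjN, hjP, hjQ]

theorem hjN_succ_succ (b t : ℤ) (c : List ℤ) (i : ℕ) :
    hjN b t c (i + 2) = c.getD i 0 * hjN b t c (i + 1) - hjN b t c i := by
  simp only [hjN, hjP, hjQ]; ring

theorem det_one (c : List ℤ) : ∀ i, hjP c i * hjQ c (i + 1) - hjP c (i + 1) * hjQ c i = 1
  | 0 => by simp [hjP, hjQ]
  | i + 1 => by
    have := det_one c i
    simp only [hjP, hjQ]
    linear_combination this

theorem hjVal_gt_one : ∀ l : List ℤ, (∀ x ∈ l, (2 : ℤ) ≤ x) → l ≠ [] → 1 < HJFrac.hjVal l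
  | [], _, h => absurd rfl h
  | a :: l, h2, _ => by
    have ha : (2 : ℚ) ≤ (a : ℚ) := by exact_mod_cast h2 a List.mem_cons_self
    rw [HJFrac.hjVal]
    rcases eq_or_ne l [] with rfl | hl
    · simp only [HJFrac.hjVal, inv_zero, sub_zero]; linarith
    · have := hjVal_gt_one l (fun x hx => h2 x (List.mem_cons_of_mem _ hx)) hl
      have : (HJFrac.hjVal l)⁻¹ < 1 := inv_lt_one_of_one_lt₀ this
      linarith

section

variable {b t : ℤ} {c : List ℤ} (hc2 : ∀ x ∈ c, (2 : ℤ) ≤ x) (hval : HJFrac.hjVal c = (b : ℚ) / (t : ℚ))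
  (ht0 : 0 < t) (htb : t < b) (hcop : IsCoprime b t)

include hc2 hval ht0 in
theorem ratio : ∀ i, i < c.length → 0 < hjN b t c (i + 1) ∧
    (hjN b t c i : ℚ) = HJFrac.hjVal (c.drop i) * (hjN b t c (i + 1) : ℚ) := by
  intro i
  induction i with
  | zero =>
    intro _
    rw [hjN_zero, hjN_one, List.drop_zero, hval, div_mul_cancel₀ _ (by exact_mod_cast ht0.ne')]
    exact ⟨ht0, rfl⟩
  | succ i ih =>
    intro hlt
    obtain ⟨h1, h2⟩ := ih (by omega)
    have hd : c.drop i = c.getD i 0 :: c.drop (i + 1) := by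
      rw [List.getD_eq_getElem _ _ (by omega : i < c.length)]
      exact List.drop_eq_getElem_cons (by omega)
    have hV : 1 < HJFrac.hjVal (c.drop (i + 1)) :=
      hjVal_gt_one _ (fun x hx => hc2 x (List.mem_of_mem_drop hx)) (by simp only [ne_eq, List.drop_eq_nil_iff]; omega)
    rw [hd, HJFrac.hjVal] at h2
    have h3 : (hjN b t c (i + 2) : ℚ) = (HJFrac.hjVal (c.drop (i + 1)))⁻¹ * (hjN b t c (i + 1) : ℚ) := by
      rw [hjN_succ_succ]
      push_cast
      rw [h2]; ring
    refine ⟨?_, ?_⟩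
    · have h1' : (0 : ℚ) < hjN b t c (i + 1) := by exact_mod_cast h1
      have : (0 : ℚ) < hjN b t c (i + 2) := by
        rw [h3]; exact mul_pos (inv_pos.2 (by linarith)) h1'
      exact_mod_cast this
    · show (hjN b t c (i + 1) : ℚ) = _ * (hjN b t c (i + 2) : ℚ)
      rw [h3, ← mul_assoc, mul_inv_cancel₀ (by linarith : HJFrac.hjVal (c.drop (i + 1)) ≠ 0), one_mul]

include hc2 hval ht0 htb in
theorem length_pos : 0 < c.length := by
  rcases c with _ | ⟨a, l⟩
  · exfalso
    simp only [HJFrac.hjVal] at hval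
    rw [eq_comm, div_eq_zero_iff] at hval
    rcases hval with h | h
    · have : b = 0 := by exact_mod_cast h
      omega
    · have : t = 0 := by exact_mod_cast h
      omega
  · simp

include hc2 hval ht0 htb in
theorem hjN_last : hjN b t c (c.length + 1) = 0 := by
  obtain ⟨r, hr⟩ := Nat.exists_eq_succ_of_ne_zero (length_pos hc2 hval ht0 htb).ne'
  obtain ⟨-, h2⟩ := ratio hc2 hval ht0 r (by omega)
  have hd : c.drop r = [c.getD r 0] := by
    rw [List.drop_eq_getElem_cons (by omega : r < c.length), List.getD_eq_getElem _ _ (by omega : r < c.length),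
      List.drop_eq_nil_iff.2 (by omega)]
  rw [hd] at h2
  simp only [HJFrac.hjVal, inv_zero, sub_zero] at h2
  rw [hr, hjN_succ_succ]
  have : (c.getD r 0 * hjN b t c (r + 1) : ℚ) = (hjN b t c r : ℚ) := h2.symm
  have h4 : c.getD r 0 * hjN b t c (r + 1) = hjN b t c r := by exact_mod_cast this
  omega

include hc2 hval ht0 htb in
theorem hjN_pos : ∀ i, i ≤ c.length → 0 < hjN b t c i := by
  intro i hi
  rcases i with _ | i
  · rw [hjN_zero]; omega
  · exact (ratio hc2 hval ht0 i (by omega)).1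

include hc2 hval ht0 htb in
theorem hjN_succ_lt : ∀ i, i ≤ c.length → hjN b t c (i + 1) < hjN b t c i := by
  intro i hi
  rcases eq_or_lt_of_le hi with h | h
  · rw [h, hjN_last hc2 hval ht0 htb]
    exact hjN_pos hc2 hval ht0 htb _ le_rfl
  · obtain ⟨h1, h2⟩ := ratio hc2 hval ht0 i h
    have hV : 1 < HJFrac.hjVal (c.drop i) :=
      hjVal_gt_one _ (fun x hx => hc2 x (List.mem_of_mem_drop hx)) (by simp only [ne_eq, List.drop_eq_nil_iff]; omega)
    have h1' : (0 : ℚ) < hjN b t c (i + 1) := by exact_mod_cast h1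
    have : (hjN b t c (i + 1) : ℚ) < hjN b t c i := by
      rw [h2]; exact lt_mul_of_one_lt_left h1' hV
    exact_mod_cast this

include hc2 hval ht0 htb in
theorem hjN_nonneg (i : ℕ) (hi : i ≤ c.length + 1) : 0 ≤ hjN b t c i := by
  rcases eq_or_lt_of_le hi with h | h
  · rw [h, hjN_last hc2 hval ht0 htb]
  · exact (hjN_pos hc2 hval ht0 htb i (by omega)).le

include hc2 hval ht0 htb in
theorem hjN_le (i : ℕ) (hi : i ≤ c.length + 1) : hjN b t c i ≤ b := by
  induction i with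
  | zero => rw [hjN_zero]
  | succ i ih => exact ((hjN_succ_lt hc2 hval ht0 htb i (by omega)).trans_le (ih (by omega))).le

include hc2 hval ht0 htb hcop in
theorem hjN_length : hjN b t c c.length = 1 := by
  have hd : ∀ i, IsCoprime (hjN b t c i) (hjN b t c (i + 1)) := by
    intro i
    induction i with
    | zero => rwa [hjN_zero, hjN_one]
    | succ i ih =>
      rw [hjN_succ_succ, sub_eq_neg_add]
      exact (ih.symm.neg_right).add_mul_right_right _
  have h := hd c.length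
  rw [hjN_last hc2 hval ht0 htb, isCoprime_zero_right] at h
  have := hjN_pos hc2 hval ht0 htb c.length le_rfl
  rcases Int.isUnit_iff.1 h with h | h <;> omega

include hc2 in
theorem hjP_succ : ∀ i, i ≤ c.length → 0 ≤ hjP c i ∧ hjP c i < hjP c (i + 1) := by
  intro i
  induction i with
  | zero => intro _; simp [hjP]
  | succ i ih =>
    intro hi
    obtain ⟨h0, h1⟩ := ih (by omega)
    have h2 : 2 ≤ c.getD i 0 := by
      rw [List.getD_eq_getElem _ _ (by omega : i < c.length)]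
      exact hc2 _ (List.getElem_mem _)
    refine ⟨by omega, ?_⟩
    show hjP c (i + 1) < c.getD i 0 * hjP c (i + 1) - hjP c i
    nlinarith

/-- Coordinates of `(x, y)`, `y = t x - b z`, in the basis `i`, `i + 1`. -/
theorem exists_coords (c : List ℤ) (i : ℕ) (x y z : ℤ) (hy : y = t * x - b * z) :
    ∃ u v : ℤ, x = u * hjP c i + v * hjP c (i + 1) ∧ z = u * hjQ c i + v * hjQ c (i + 1) ∧
      y = u * hjN b t c i + v * hjN b t c (i + 1) := by
  refine ⟨x * hjQ c (i + 1) - z * hjP c (i + 1), z * hjP c i - x * hjQ c i, ?_, ?_, ?_⟩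
  · linear_combination (-x) * det_one c i
  · linear_combination (-z) * det_one c i
  · rw [hy]; simp only [hjN]
    linear_combination (-(t * x - b * z)) * det_one c i

include hc2 hval ht0 htb in
/-- Best approximation: `0 < x < P_{i+1}` and `0 ≤ y ≡ t x (mod b)` force `Nᵢ ≤ y`. -/
theorem le_of_lt_hjP (i : ℕ) (hi : i ≤ c.length) (x y z : ℤ) (hy : y = t * x - b * z) (hy0 : 0 ≤ y)
    (hx0 : 0 < x) (hx : x < hjP c (i + 1)) : hjN b t c i ≤ y := by
  obtain ⟨u, v, hxe, -, hye⟩ := exists_coords (t := t) (b := b) c i x y z hy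
  obtain ⟨hP0, hP1⟩ := hjP_succ hc2 i hi
  have hN := hjN_succ_lt hc2 hval ht0 htb i hi
  have hN1 := hjN_nonneg hc2 hval ht0 htb (i + 1) (by omega)
  rcases le_or_gt u 0 with hu | hu
  · have hv : 1 ≤ v := by
      by_contra hv
      have : u * hjP c i ≤ 0 := mul_nonpos_of_nonpos_of_nonneg hu hP0
      have : v * hjP c (i + 1) ≤ 0 := mul_nonpos_of_nonpos_of_nonneg (by omega) (by omega)
      omega
    have hvu : v ≤ -u := by
      by_contra hvu
      nlinarith
    nlinarith
  · rcases le_or_gt 0 v with hv | hv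
    · nlinarith
    · have : -v + 1 ≤ u := by
        by_contra huv
        nlinarith
      nlinarith

end

section Bridge

variable {p q m : ℕ} (hp : 0 < p) (hpq : p < q) (hcop : Nat.Coprime p q) (hm : 0 < m) (hnt : ¬ (q - p ∣ m))

include hp hpq hcop hm hnt in
theorem tT_facts : (gcdK p q m : ℤ) * bB p q m = (q : ℤ) - p ∧ 0 < (tT p q m : ℤ) ∧ (tT p q m : ℤ) < bB p q m ∧
    IsCoprime (bB p q m : ℤ) (tT p q m : ℤ) ∧ 0 < (gcdK p q m : ℤ) ∧
    (p : ℤ) * m = ((alpha p q m : ℤ) + 1) * ((q : ℤ) - p) - gcdK p q m * tT p q m := by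
  have hg : 0 < Nat.gcd m (q - p) := Nat.gcd_pos_of_pos_left _ hm
  obtain ⟨a, b, hab, ha, hb⟩ := Nat.exists_coprime m (q - p)
  have hb0 : 0 < b := by
    by_contra h
    rw [Nat.le_zero.1 (Nat.not_lt.1 h), zero_mul] at hb
    omega
  have hpd : Nat.Coprime p (q - p) := (Nat.coprime_sub_self_right hpq.le).2 hcop
  have hpb : Nat.Coprime p b := hpd.coprime_dvd_right ⟨_, hb⟩
  have hr : (a * p) % b ≠ 0 := by
    intro h
    have hdvd : b ∣ a := hpb.symm.dvd_of_dvd_mul_right (Nat.dvd_of_mod_eq_zero h)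
    apply hnt
    calc q - p = b * Nat.gcd m (q - p) := hb
      _ ∣ a * Nat.gcd m (q - p) := Nat.mul_dvd_mul_right hdvd _
      _ = m := ha.symm
  have hbB : bB p q m = b := by
    rw [bB, gcdK]
    exact Nat.div_eq_of_eq_mul_left hg hb
  have hmod : m * p % (q - p) = Nat.gcd m (q - p) * (a * p % b) := by
    rw [← Nat.mul_mod_mul_left, ← mul_assoc, mul_comm _ a, ← ha, mul_comm (Nat.gcd m (q - p)) b, ← hb]
  have hlt := Nat.mod_lt (a * p) hb0
  have htT : tT p q m = b - a * p % b := by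
    rw [tT, gcdK, hmod]
    refine Nat.div_eq_of_eq_mul_left hg ?_
    rw [Nat.sub_mul, ← hb, mul_comm (a * p % b)]
  have hdiv : m * p = (q - p) * alpha p q m + Nat.gcd m (q - p) * (a * p % b) := by
    rw [← hmod, alpha, Nat.div_add_mod]
  rw [gcdK, hbB, htT]
  refine ⟨?_, by omega, by omega, ?_, by exact_mod_cast hg, ?_⟩
  · have : ((q - p : ℕ) : ℤ) = (b : ℤ) * (Nat.gcd m (q - p) : ℤ) := by exact_mod_cast hb
    rw [Nat.cast_sub hpq.le] at this
    linarith
  · rw [Int.isCoprime_iff_gcd_eq_one, Int.gcd_natCast_natCast]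
    have h1 : Nat.Coprime b (a * p) := Nat.Coprime.mul_right hab.symm hpb.symm
    have h2 : Nat.Coprime (a * p % b) b := by
      rw [Nat.coprime_iff_gcd_eq_one, ← Nat.gcd_rec, ← Nat.coprime_iff_gcd_eq_one]; exact h1
    exact ((Nat.coprime_self_sub_right hlt.le).2 h2.symm)
  · have h1 : ((q - p : ℕ) : ℤ) = (b : ℤ) * (Nat.gcd m (q - p) : ℤ) := by exact_mod_cast hb
    have h2 : ((m * p : ℕ) : ℤ) = ((q - p : ℕ) : ℤ) * (alpha p q m : ℤ) + (Nat.gcd m (q - p) : ℤ) * ((a * p % b : ℕ) : ℤ) := by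
      exact_mod_cast hdiv
    rw [Nat.cast_sub hlt.le]
    rw [Nat.cast_sub hpq.le] at h1 h2
    push_cast at h2 ⊢
    linear_combination h2 + (-1 : ℤ) * h1

include hp hpq hcop hm hnt in
theorem nN_eq (c : List ℤ) (i : ℕ) :
    nN p q m c i = (gcdK p q m : ℤ) * hjN (bB p q m) (tT p q m) c i := by
  obtain ⟨h1, -, -, -, -, h2⟩ := tT_facts hp hpq hcop hm hnt
  simp only [nN, eE, lL, hjN]
  push_cast
  linear_combination (-(hjP c i)) * h2 + hjQ c i * h1

end Bridge

end InvHilbLib
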